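import Cfsg.Agent.Linear.Mitchell.Centraliser.Plane
import Cfsg.Agent.S0016
import Cfsg.Agent.S0201

/-!
Sylow 2-subgroups of `P` modulo scalars seen in the plane group.
-/

set_option autoImplicit false

namespace Cfsg.Agent.Linear.Mitchell

open scoped MatrixGroups Matrix
open Cfsg.Geo Matrix Cfsg.Agent.Linear

variable {F : Type*} [Field F] {P : Subgroup (GL (Fin 3) F)}

local notation "M2" => Matrix (Fin 2) (Fin 2) F

namespace Setting

variable [Finite F] (hS : Setting P)
include hS

/-- No Sylow 2-subgroup has a unique involution. -/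
theorem false_of_unique_involution (S : Sylow 2 (PX P)) (t : PX P)
    (h : ∀ s ∈ (S : Subgroup (PX P)), orderOf s = 2 → s = t) : False := by
  haveI : Fact (Nat.Prime 2) := ⟨Nat.prime_two⟩
  haveI := hS.simple
  have hu : ∀ H K : Subgroup S, Nat.card H = 2 → Nat.card K = 2 → H = K := by
    have key : ∀ H : Subgroup S, Nat.card H = 2 → ∀ x ∈ H, (x : S) = 1 ∨ ((x : S) : PX P) = t := by
      intro H hH x hx
      by_cases h1 : x = 1
      · exact Or.inl h1
      · refine Or.inr (h _ x.2 ?_)
        rw [Subgroup.orderOf_coe]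
        refine orderOf_eq_prime ?_ h1
        simpa [hH] using congrArg Subtype.val (pow_card_eq_one' (G := H) (x := ⟨x, hx⟩))
    intro H K hH hK
    refine Subgroup.eq_of_le_of_card_ge (fun x hx => ?_) (by rw [hH, hK])
    rcases key H hH x hx with e | e
    · rw [e]; exact K.one_mem
    · obtain ⟨y, hy⟩ := exists_prime_orderOf_dvd_card' (G := K) 2 (by rw [hK])
      rcases key K hK y y.2 with e' | e'
      · rw [← Subgroup.orderOf_coe, e', orderOf_one] at hy
        exact absurd hy (by norm_num)
      · rw [show x = (y : S) from Subtype.ext (e.trans e'.symm)]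
        exact y.2
  rcases Cfsg.Agent.S0016.result 2 S.isPGroup' hu with hc | ⟨-, n, ⟨e⟩⟩
  · exact hS.sylow_two_not_cyclic S hc
  · cases n with
    | zero =>
      -- the quaternion group of order four is cyclic
      refine hS.sylow_two_not_cyclic S ?_
      have hcy : IsCyclic (QuaternionGroup (2 ^ 0)) := by
        rw [pow_zero]
        exact QuaternionGroup.quaternionGroup_one_isCyclic
      exact isCyclic_of_surjective e.symm.toMonoidHom e.symm.surjective
    | succ n =>
      have h2 := Cfsg.Agent.S0201.result S n e fun N hN hodd => hS.normal_odd_eq_bot N hN hodd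
      have hne : Subgroup.center (PX P) ≠ ⊤ := fun htop => hS.not_comm fun a b =>
        Subgroup.mem_center_iff.mp (htop ▸ Subgroup.mem_top b) a
      rcases (inferInstance : (Subgroup.center (PX P)).Normal).eq_bot_or_eq_top with hb | hb
      · rw [hb, Subgroup.card_bot] at h2
        exact absurd h2 (by norm_num)
      · exact hne hb

theorem pResidual_two_eq_top : Cfsg.pResidual 2 (PX P) = ⊤ := by
  haveI : Fact (Nat.Prime 2) := ⟨Nat.prime_two⟩
  haveI := hS.simple
  have hn : (Cfsg.pResidual 2 (PX P)).Normal := by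
    refine ⟨fun x hx g => ?_⟩
    have : (Cfsg.pResidual 2 (PX P)).map (MulAut.conj g).toMonoidHom ≤ Cfsg.pResidual 2 (PX P) := by
      rw [Cfsg.pResidual, MonoidHom.map_closure, Subgroup.closure_le]
      rintro _ ⟨y, hy, rfl⟩
      refine Subgroup.subset_closure ?_
      show Nat.Coprime (orderOf (MulAut.conj g y)) 2
      rwa [MulEquiv.orderOf_eq]
    exact this ⟨x, hx, rfl⟩
  refine hn.eq_bot_or_eq_top.resolve_left fun h => ?_
  have hp : IsPGroup 2 (PX P) := by
    intro x
    refine ⟨(orderOf x).factorization 2, ?_⟩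
    have hy : x ^ (2 ^ (orderOf x).factorization 2) ∈ Cfsg.pResidual 2 (PX P) := by
      refine Subgroup.subset_closure ?_
      show Nat.Coprime (orderOf _) 2
      rw [orderOf_pow_of_dvd (by positivity) (Nat.ordProj_dvd _ _)]
      exact (Nat.coprime_ordCompl Nat.prime_two (orderOf_pos x).ne').symm
    rwa [h, Subgroup.mem_bot] at hy
  haveI := hp.isNilpotent
  exact hS.not_comm fun a b => IsSimpleGroup.comm_iff_isSolvable.mpr inferInstance a b

end Setting

namespace InvSetting

variable {p : ℕ} (hI : InvSetting p P)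
include hI

/-- The plane group inside `P` modulo scalars. -/
noncomputable def planeHom : hI.plane →* PX P :=
  (Subgroup.centralizer ({hI.tX} : Set (PX P))).subtype.comp hI.cenIso.symm.toMonoidHom

theorem planeHom_injective : Function.Injective hI.planeHom :=
  Subtype.val_injective.comp hI.cenIso.symm.injective

theorem planeHom_neg_one : hI.planeHom ⟨-1, hI.neg_one_mem⟩ = hI.tX := by
  have e : hI.cenIso ⟨hI.tX, Subgroup.mem_centralizer_singleton_iff.mpr rfl⟩ = ⟨-1, hI.neg_one_mem⟩ :=
    Subtype.ext hI.cenIso_tX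
  rw [← e]
  show ((hI.cenIso.symm (hI.cenIso _)) : PX P) = _
  rw [MulEquiv.symm_apply_apply]

theorem range_planeHom : hI.planeHom.range = Subgroup.centralizer ({hI.tX} : Set (PX P)) := by
  refine le_antisymm (by rintro _ ⟨M, rfl⟩; exact (hI.cenIso.symm M).2) fun x hx => ?_
  exact ⟨hI.cenIso ⟨x, hx⟩, by simp [planeHom]⟩

theorem card_plane : Nat.card hI.plane = Nat.card (Subgroup.centralizer ({hI.tX} : Set (PX P))) :=
  (Nat.card_congr hI.cenIso.toEquiv).symm

variable [Finite F] (hodd : ¬ 2 ∣ (Subgroup.centralizer ({hI.tX} : Set (PX P))).index)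
include hodd

/-- Sylow 2-subgroups of the plane group give Sylow 2-subgroups modulo scalars. -/
theorem exists_sylow_map [Fact (Nat.Prime 2)] (R : Sylow 2 hI.plane) :
    ∃ S : Sylow 2 (PX P), (S : Subgroup (PX P)) = (R : Subgroup hI.plane).map hI.planeHom := by
  refine ⟨Sylow.ofCard ((R : Subgroup hI.plane).map hI.planeHom) ?_, rfl⟩
  rw [Subgroup.card_map_of_injective hI.planeHom_injective, R.card_eq_multiplicity, hI.card_plane]
  congr 1
  conv_rhs => rw [← (Subgroup.centralizer ({hI.tX} : Set (PX P))).card_mul_index]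
  rw [Nat.factorization_mul Nat.card_pos.ne' Subgroup.index_ne_zero_of_finite, Finsupp.add_apply,
    Nat.factorization_eq_zero_of_not_dvd hodd, add_zero]

/-- Some element of the Sylow 2-subgroup other than `-1` has order two. -/
theorem exists_other_involution (R : Sylow 2 hI.plane) :
    ∃ M ∈ (R : Subgroup hI.plane), orderOf M = 2 ∧ (M : GL (Fin 2) F) ≠ -1 := by
  haveI : Fact (Nat.Prime 2) := ⟨Nat.prime_two⟩
  by_contra hne
  push Not at hne
  obtain ⟨S, hS⟩ := hI.exists_sylow_map hodd R
  refine hI.toSetting.false_of_unique_involution S hI.tX fun s hs h2 => ?_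
  rw [hS] at hs
  obtain ⟨M, hM, rfl⟩ := hs
  rw [orderOf_injective _ hI.planeHom_injective] at h2
  rw [show M = ⟨-1, hI.neg_one_mem⟩ from Subtype.ext (hne M hM h2), hI.planeHom_neg_one]

end InvSetting

end Cfsg.Agent.Linear.Mitchell
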