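import Cfsg.Agent.Linear.Mitchell.Quotient
import Cfsg.Agent.Linear.Mitchell.Homology.Pair

/-!
The centraliser of the involution `diag(1,-1,-1)` and its representation on the plane.
-/

set_option autoImplicit false

namespace Cfsg.Agent.Linear.Mitchell

open scoped MatrixGroups Matrix
open Cfsg.Geo Matrix

variable {F : Type*} [Field F]

local notation "M3" => Matrix (Fin 3) (Fin 3) F
local notation "M2" => Matrix (Fin 2) (Fin 2) F

/-- `diag(1, M)`. -/
def blk (M : M2) : M3 := !![1, 0, 0; 0, M 0 0, M 0 1; 0, M 1 0, M 1 1]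

theorem blk_mul (M N : M2) : blk (M * N) = blk M * blk N := by
  ext i j
  fin_cases i <;> fin_cases j <;> simp [blk, Matrix.mul_apply, Fin.sum_univ_two, Fin.sum_univ_three]

theorem blk_one : blk (1 : M2) = 1 := by
  ext i j
  fin_cases i <;> fin_cases j <;> simp [blk, Matrix.one_apply]

theorem det_blk (M : M2) : (blk M).det = M.det := by
  simp [blk, Matrix.det_fin_three, Matrix.det_fin_two]

/-- The plane embedding `GL₂ → GL₃`. -/
def emb2 : GL (Fin 2) F →* GL (Fin 3) F :=
  Units.map { toFun := blk, map_one' := blk_one, map_mul' := blk_mul }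

theorem emb2_val (M : GL (Fin 2) F) : (emb2 M : M3) = blk (M : M2) := rfl

/-- The involution `diag(1,-1,-1)`. -/
def t0 : GL (Fin 3) F := emb2 (-1)

theorem t0_val : ((t0 : GL (Fin 3) F) : M3) = Matrix.diagonal ![1, -1, -1] := by
  ext i j
  fin_cases i <;> fin_cases j <;> simp [t0, emb2_val, blk]

theorem t0_mul_self : (t0 : GL (Fin 3) F) * t0 = 1 := by
  rw [t0, ← map_mul, neg_mul_neg, one_mul, map_one]

/-- The setting for the involution analysis. -/
structure InvSetting (p : ℕ) (P : Subgroup (GL (Fin 3) F)) : Prop where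
  toSetting : Setting P
  prime : p.Prime
  char : CharP F p
  two : (2 : F) ≠ 0
  noTv : NoTransvection P
  hom : ∀ lam : F, HasHomology P lam → lam ^ 2 = 1
  t0_mem : (t0 : GL (Fin 3) F) ∈ P

/-- The centraliser of `t0` in `P`. -/
def cen0 (P : Subgroup (GL (Fin 3) F)) : Subgroup (GL (Fin 3) F) :=
  P ⊓ Subgroup.centralizer {(t0 : GL (Fin 3) F)}

variable {P : Subgroup (GL (Fin 3) F)}

theorem cen0_zero (h2 : (2 : F) ≠ 0) {g : GL (Fin 3) F} (hg : g * t0 = t0 * g) :
    (g : M3) 0 1 = 0 ∧ (g : M3) 0 2 = 0 ∧ (g : M3) 1 0 = 0 ∧ (g : M3) 2 0 = 0 := by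
  have h : (g : M3) * (t0 : GL (Fin 3) F) = (t0 : GL (Fin 3) F) * (g : M3) := by
    rw [← Units.val_mul, hg, Units.val_mul]
  rw [t0_val] at h
  have key : ∀ i j, (g : M3) i j * ![1, -1, -1] j = ![1, -1, -1] i * (g : M3) i j := fun i j => by
    have := congrFun (congrFun h i) j
    rwa [Matrix.mul_diagonal, Matrix.diagonal_mul] at this
  have two : ∀ x : F, x = -x → x = 0 := fun x hx =>
    (mul_eq_zero.mp (show (2 : F) * x = 0 by linear_combination hx)).resolve_left h2
  refine ⟨two _ ?_, two _ ?_, two _ ?_, two _ ?_⟩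
  · simpa using (key 0 1).symm
  · simpa using (key 0 2).symm
  · simpa using key 1 0
  · simpa using key 2 0

/-- The plane part of a block matrix, scaled by its entry on the line. -/
def planePart (X : M3) : M2 := (X 0 0)⁻¹ • Matrix.of ![![X 1 1, X 1 2], ![X 2 1, X 2 2]]

theorem eq_smul_blk {X : M3} (h01 : X 0 1 = 0) (h02 : X 0 2 = 0) (h10 : X 1 0 = 0) (h20 : X 2 0 = 0)
    (h00 : X 0 0 ≠ 0) : X = X 0 0 • blk (planePart X) := by
  ext i j
  fin_cases i <;> fin_cases j <;> simp [blk, planePart, h01, h02, h10, h20, h00]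

theorem planePart_smul_blk {c : F} (hc : c ≠ 0) (M : M2) : planePart (c • blk M) = M := by
  ext i j
  fin_cases i <;> fin_cases j <;> simp [blk, planePart, hc]

theorem smul_blk_inj {c d : F} (hc : c ≠ 0) {M N : M2} (h : c • blk M = d • blk N) : c = d ∧ M = N := by
  have e : c = d := by simpa [blk] using congrFun (congrFun h 0) 0
  subst e
  exact ⟨rfl, by rw [← planePart_smul_blk hc M, h, planePart_smul_blk hc]⟩

namespace InvSetting

variable {p : ℕ} (hI : InvSetting p P)
include hI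

theorem exists_blk {g : GL (Fin 3) F} (hg : g ∈ cen0 P) :
    ∃ c : F, c ≠ 0 ∧ (g : M3) = c • blk (planePart (g : M3)) ∧ c ^ 3 * (planePart (g : M3)).det = 1 := by
  obtain ⟨hgP, hgc⟩ := hg
  obtain ⟨h01, h02, h10, h20⟩ := cen0_zero hI.two (Subgroup.mem_centralizer_singleton_iff.mp hgc)
  have h00 : (g : M3) 0 0 ≠ 0 := fun h => by
    refine Matrix.GeneralLinearGroup.det_ne_zero g ?_
    simp [Matrix.det_fin_three, h01, h02, h]
  have he := eq_smul_blk h01 h02 h10 h20 h00
  refine ⟨_, h00, he, ?_⟩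
  have := congrArg Matrix.det he
  rw [hI.toSetting.det_eq_one hgP, Matrix.det_smul, Fintype.card_fin, det_blk] at this
  exact this.symm

/-- The representation of the centraliser on the plane. -/
noncomputable def psi : cen0 P →* GL (Fin 2) F :=
  MonoidHom.toHomUnits
    { toFun := fun g => planePart ((g : GL (Fin 3) F) : M3)
      map_one' := by
        rw [Subgroup.coe_one, Units.val_one, ← blk_one, ← one_smul F (blk (1 : M2)),
          planePart_smul_blk one_ne_zero]
      map_mul' := fun g h => by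
        obtain ⟨c, hc, hg, -⟩ := hI.exists_blk g.2
        obtain ⟨d, hd, hh, -⟩ := hI.exists_blk h.2
        rw [Subgroup.coe_mul, Units.val_mul]
        conv_lhs => rw [hg, hh]
        rw [smul_mul_smul_comm, ← blk_mul, planePart_smul_blk (mul_ne_zero hc hd)] }

theorem psi_val (g : cen0 P) : (hI.psi g : M2) = planePart ((g : GL (Fin 3) F) : M3) := rfl

theorem psi_spec (g : cen0 P) : ∃ c : F, c ≠ 0 ∧
    ((g : GL (Fin 3) F) : M3) = c • blk (hI.psi g : M2) ∧ c ^ 3 * (hI.psi g : M2).det = 1 := by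
  obtain ⟨c, h1, h2, h3⟩ := hI.exists_blk g.2
  exact ⟨c, h1, h2, h3⟩

theorem psi_eq_one_iff (g : cen0 P) :
    hI.psi g = 1 ↔ ∃ c : F, ((g : GL (Fin 3) F) : M3) = c • 1 := by
  obtain ⟨c, hc, he, -⟩ := hI.psi_spec g
  constructor
  · intro h
    exact ⟨c, by rw [he, h, Units.val_one, blk_one]⟩
  · rintro ⟨d, hd⟩
    rw [he, ← blk_one] at hd
    exact Units.ext (smul_blk_inj hc hd).2

theorem t0_mem_cen0 : (t0 : GL (Fin 3) F) ∈ cen0 P :=
  ⟨hI.t0_mem, Subgroup.mem_centralizer_singleton_iff.mpr rfl⟩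

/-- The image of the centraliser on the plane. -/
noncomputable def plane : Subgroup (GL (Fin 2) F) := hI.psi.range

theorem mem_plane {M : GL (Fin 2) F} : M ∈ hI.plane ↔
    ∃ g ∈ cen0 P, ∃ c : F, c ≠ 0 ∧ (g : M3) = c • blk (M : M2) := by
  constructor
  · rintro ⟨g, rfl⟩
    obtain ⟨c, hc, he, -⟩ := hI.psi_spec g
    exact ⟨g, g.2, c, hc, he⟩
  · rintro ⟨g, hg, c, hc, he⟩
    exact ⟨⟨g, hg⟩, Units.ext (by rw [psi_val]; simp [he, planePart_smul_blk hc])⟩

theorem neg_one_mem : (-1 : GL (Fin 2) F) ∈ hI.plane :=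
  hI.mem_plane.mpr ⟨t0, hI.t0_mem_cen0, 1, one_ne_zero, by rw [one_smul, t0, emb2_val]⟩

/-- The only scalars on the plane are `±1`. -/
theorem scalar_plane {M : GL (Fin 2) F} (hM : M ∈ hI.plane) {b : F} (hb : (M : M2) = b • 1) :
    M = 1 ∨ M = -1 := by
  obtain ⟨g, hg, c, hc, he⟩ := hI.mem_plane.mp hM
  have hb0 : b ≠ 0 := fun h => by
    have := Matrix.GeneralLinearGroup.det_ne_zero M
    simp [hb, h] at this
  have hh : HasHomology P b⁻¹ := by
    refine ⟨g, hg.1, c * b, Pi.single 0 1, Pi.single 0 1, by simp, ?_⟩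
    rw [he, hb]
    ext i j
    fin_cases i <;> fin_cases j <;>
      simp [blk, Matrix.vecMulVec_apply, mul_sub, hb0, mul_assoc]
  have hb2 : b ^ 2 = 1 := by
    have := hI.hom _ hh
    rwa [inv_pow, inv_eq_one] at this
  rcases sq_eq_one_iff.mp hb2 with e | e
  · exact Or.inl (Units.ext (by rw [hb, e, one_smul, Units.val_one]))
  · exact Or.inr (Units.ext (by rw [hb, e, Units.val_neg, Units.val_one, neg_smul, one_smul]))

/-- The plane group has order prime to `p`. -/
theorem not_dvd_card [Finite F] : ¬ p ∣ Nat.card hI.plane := by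
  haveI : Fact p.Prime := ⟨hI.prime⟩
  haveI := hI.char
  intro hd
  obtain ⟨M, hM⟩ := exists_prime_orderOf_dvd_card' p hd
  set N : M2 := ((M : GL (Fin 2) F) : M2) - 1 with hN
  have hMp : ((M : GL (Fin 2) F) : M2) ^ p = 1 := by
    have h1 : M ^ p = 1 := orderOf_dvd_iff_pow_eq_one.mp (dvd_of_eq hM)
    rw [← Units.val_pow_eq_pow_val, ← Subgroup.coe_pow, h1, Subgroup.coe_one, Units.val_one]
  have hnil : IsNilpotent N := ⟨p, by
    rw [hN, sub_pow_char_of_commute p (Commute.one_right _), hMp, one_pow, sub_self]⟩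
  have hdet : N.det = 0 := by
    obtain ⟨k, hk⟩ := hnil
    have := congrArg Matrix.det hk
    rw [Matrix.det_pow, Matrix.det_zero] at this
    · exact (pow_eq_zero_iff'.mp this).1
  obtain ⟨a, φ, hN', hφ⟩ : ∃ a φ : Fin 2 → F, N = vecMulVec a φ ∧ φ ⬝ᵥ a = 0 := by
    have htr : N.trace = 0 := (Matrix.isNilpotent_trace_of_isNilpotent hnil).eq_zero
    rw [Matrix.det_fin_two] at hdet
    rw [Matrix.trace_fin_two] at htr
    by_cases h01 : N 0 1 = 0
    · have h00 : N 0 0 = 0 := by
        refine mul_self_eq_zero.mp ?_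
        linear_combination -hdet + N 0 0 * htr - N 1 0 * h01
      refine ⟨![0, N 1 0], ![1, 0], ?_, by simp⟩
      ext i j
      fin_cases i <;> fin_cases j <;> simp [Matrix.vecMulVec_apply, h00, h01]
      linear_combination htr - h00
    · refine ⟨![1, N 1 1 / N 0 1], ![N 0 0, N 0 1], ?_, ?_⟩
      · ext i j
        fin_cases i <;> fin_cases j <;> simp [Matrix.vecMulVec_apply, div_mul_cancel₀ _ h01]
        field_simp
        linear_combination -hdet
      · simp [mul_div_cancel₀ _ h01]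
        linear_combination htr
  obtain ⟨g, hg, c, hc, he⟩ := hI.mem_plane.mp M.2
  have hg' : (g : M3) = c • H95.tvMat ![0, a 0, a 1] ![0, φ 0, φ 1] := by
    rw [he, show ((M : GL (Fin 2) F) : M2) = 1 + vecMulVec a φ by rw [← hN', hN]; abel]
    congr 1
    ext i j
    fin_cases i <;> fin_cases j <;> simp [blk, H95.tvMat, Matrix.vecMulVec_apply, Matrix.one_apply]
  have := hI.toSetting.inTv_of_scalar_mul hI.noTv hg.1
    (by simpa [dotProduct, Fin.sum_univ_two, Fin.sum_univ_three] using hφ) hg'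
  rw [he, ← blk_one] at this
  have hM1 : M = 1 := Subtype.ext (Units.ext (smul_blk_inj hc this).2)
  rw [hM1, orderOf_one] at hM
  exact hI.prime.one_lt.ne hM

end InvSetting

end Cfsg.Agent.Linear.Mitchell
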