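import Cfsg.Agent.Linear.Mitchell.Centraliser.Block

/-!
The centraliser of an involution of `P` modulo scalars is the plane group.
-/

set_option autoImplicit false

namespace Cfsg.Agent.Linear.Mitchell

open scoped MatrixGroups Matrix
open Cfsg.Geo Matrix

variable {F : Type*} [Field F] {P : Subgroup (GL (Fin 3) F)}

local notation "M3" => Matrix (Fin 3) (Fin 3) F

theorem Setting.exists_involution_lift (hS : Setting P) (h2 : (2 : F) ≠ 0) {x : PX P} (hx : orderOf x = 2) :
    ∃ g : P, px P g = x ∧ g * g = 1 ∧ g ≠ 1 := by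
  obtain ⟨g, rfl⟩ := px_surjective x
  have hx2 : px P g * px P g = 1 := by rw [← sq, ← hx, pow_orderOf_eq_one]
  rw [← map_mul, px_eq_one] at hx2
  obtain ⟨c, hc⟩ := hx2
  have hc3 : c ^ 3 = 1 := hS.scalar_cube (g * g).2 hc
  refine ⟨g * g * g, ?_, ?_, fun h => ?_⟩
  · rw [map_mul, map_mul, ← sq, ← hx, pow_orderOf_eq_one, one_mul]
  · refine Subtype.ext (Units.ext ?_)
    have e : (g * g * g) * (g * g * g) = (g * g) * (g * g) * (g * g) := by group
    rw [e]
    simp only [Subgroup.coe_mul, Units.val_mul] at hc ⊢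
    rw [hc, smul_mul_smul_comm, smul_mul_smul_comm, mul_one, mul_one, show c * c * c = c ^ 3 by ring, hc3,
      one_smul]
    rfl
  · have := congrArg (px P) h
    rw [map_mul, map_mul, ← sq, ← hx, pow_orderOf_eq_one, one_mul, map_one] at this
    rw [this, orderOf_one] at hx
    exact absurd hx (by norm_num)

namespace InvSetting

variable {p : ℕ} (hI : InvSetting p P)
include hI

/-- The image of `t0` modulo scalars. -/
def tX : PX P := px P ⟨t0, hI.t0_mem⟩

theorem orderOf_tX : orderOf hI.tX = 2 := by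
  haveI : Fact (Nat.Prime 2) := ⟨Nat.prime_two⟩
  refine orderOf_eq_prime ?_ fun h => ?_
  · rw [tX, ← map_pow, sq, show (⟨t0, hI.t0_mem⟩ : P) * ⟨t0, hI.t0_mem⟩ = 1 from Subtype.ext t0_mul_self,
      map_one]
  · obtain ⟨c, hc⟩ := px_eq_one.mp h
    simp only at hc
    rw [t0_val] at hc
    have e0 := congrFun (congrFun hc 0) 0
    have e1 := congrFun (congrFun hc 1) 1
    simp at e0 e1
    exact hI.two (by linear_combination e0 - e1)

/-- Commuting modulo scalars with `t0` is commuting with it. -/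
theorem mem_cen0_of_commute {g : P} (h : px P g * hI.tX = hI.tX * px P g) :
    (g : GL (Fin 3) F) ∈ cen0 P := by
  refine ⟨g.2, Subgroup.mem_centralizer_singleton_iff.mpr ?_⟩
  rw [tX, ← map_mul, ← map_mul, px_eq_iff] at h
  obtain ⟨c, hc⟩ := h
  simp only [Subgroup.coe_mul, Units.val_mul] at hc
  have hg := Matrix.GeneralLinearGroup.det_ne_zero (g : GL (Fin 3) F)
  have htt : ((t0 : GL (Fin 3) F) : M3) * ((t0 : GL (Fin 3) F) : M3) = 1 := by
    rw [← Units.val_mul, t0_mul_self, Units.val_one]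
  have h1 : ((g : GL (Fin 3) F) : M3) = (c * c) • ((g : GL (Fin 3) F) : M3) := by
    calc ((g : GL (Fin 3) F) : M3)
        = ((t0 : GL (Fin 3) F) : M3) * (((t0 : GL (Fin 3) F) : M3) * ((g : GL (Fin 3) F) : M3)) := by
          rw [← mul_assoc, htt, one_mul]
      _ = c • ((((t0 : GL (Fin 3) F) : M3) * ((g : GL (Fin 3) F) : M3)) * ((t0 : GL (Fin 3) F) : M3)) := by
          conv_lhs => rw [hc, mul_smul_comm, ← mul_assoc]
      _ = _ := by rw [hc, smul_mul_assoc, mul_assoc, htt, mul_one, smul_smul]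
  have hc2 : c * c = 1 := by
    have h2 := congrArg (· * (((g : GL (Fin 3) F)⁻¹ : GL (Fin 3) F) : M3)) h1
    simp only [smul_mul_assoc, ← Units.val_mul, mul_inv_cancel, Units.val_one] at h2
    simpa using (congrFun (congrFun h2 0) 0).symm
  have hdet : c ^ 3 = 1 := by
    have := congrArg Matrix.det hc
    rw [Matrix.det_smul, Matrix.det_mul, Matrix.det_mul, Fintype.card_fin] at this
    refine mul_right_cancel₀ (mul_ne_zero hg (Matrix.GeneralLinearGroup.det_ne_zero t0)) ?_
    rw [one_mul]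
    linear_combination -this
  have hc1 : c = 1 := by linear_combination hdet - c * hc2
  rw [hc1, one_smul] at hc
  exact Units.ext (by simp [hc])

/-- Membership of the centraliser of the involution, lifted. -/
theorem mem_centralizer_iff {x : PX P} :
    x ∈ Subgroup.centralizer ({hI.tX} : Set (PX P)) ↔ ∃ g : cen0 P, px P ⟨g, g.2.1⟩ = x := by
  rw [Subgroup.mem_centralizer_singleton_iff]
  constructor
  · obtain ⟨g, rfl⟩ := px_surjective x
    exact fun h => ⟨⟨g, hI.mem_cen0_of_commute h⟩, rfl⟩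
  · rintro ⟨g, rfl⟩
    rw [tX, ← map_mul, ← map_mul]
    exact congrArg (px P) (Subtype.ext (Subgroup.mem_centralizer_singleton_iff.mp g.2.2))

/-- The map from the lifted centraliser to the centraliser modulo scalars. -/
noncomputable def toCen : cen0 P →* Subgroup.centralizer ({hI.tX} : Set (PX P)) :=
  MonoidHom.mk' (fun g => ⟨px P ⟨g, g.2.1⟩, hI.mem_centralizer_iff.mpr ⟨g, rfl⟩⟩)
    fun g h => Subtype.ext (map_mul (px P) ⟨g, g.2.1⟩ ⟨h, h.2.1⟩)

theorem toCen_surjective : Function.Surjective hI.toCen := fun x => by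
  obtain ⟨g, hg⟩ := hI.mem_centralizer_iff.mp x.2
  exact ⟨g, Subtype.ext hg⟩

theorem ker_toCen : hI.toCen.ker = hI.psi.ker := by
  ext g
  rw [MonoidHom.mem_ker, MonoidHom.mem_ker, hI.psi_eq_one_iff, Subtype.ext_iff]
  exact px_eq_one

/-- The centraliser of the involution is the plane group. -/
noncomputable def cenIso : Subgroup.centralizer ({hI.tX} : Set (PX P)) ≃* hI.plane :=
  (QuotientGroup.quotientKerEquivOfSurjective hI.toCen hI.toCen_surjective).symm.trans
    ((QuotientGroup.quotientMulEquivOfEq hI.ker_toCen).trans (QuotientGroup.quotientKerEquivRange hI.psi))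

theorem cenIso_toCen (g : cen0 P) : ((hI.cenIso (hI.toCen g)) : GL (Fin 2) F) = hI.psi g := by
  have : (QuotientGroup.quotientKerEquivOfSurjective hI.toCen hI.toCen_surjective).symm (hI.toCen g) =
      (g : cen0 P ⧸ hI.toCen.ker) := by
    rw [MulEquiv.symm_apply_eq]
    rfl
  show ((QuotientGroup.quotientKerEquivRange hI.psi) ((QuotientGroup.quotientMulEquivOfEq hI.ker_toCen)
    ((QuotientGroup.quotientKerEquivOfSurjective hI.toCen hI.toCen_surjective).symm (hI.toCen g))) :
      GL (Fin 2) F) = _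
  rw [this]
  rfl

theorem cenIso_tX : (hI.cenIso ⟨hI.tX, Subgroup.mem_centralizer_singleton_iff.mpr rfl⟩ : GL (Fin 2) F) = -1 := by
  have e : hI.toCen ⟨t0, hI.t0_mem_cen0⟩ = ⟨hI.tX, Subgroup.mem_centralizer_singleton_iff.mpr rfl⟩ := rfl
  rw [← e, hI.cenIso_toCen]
  refine Units.ext ?_
  rw [psi_val]
  show planePart ((t0 : GL (Fin 3) F) : M3) = _
  rw [t0, emb2_val, ← one_smul F (blk _), planePart_smul_blk one_ne_zero]

end InvSetting

end Cfsg.Agent.Linear.Mitchell
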