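import Cfsg.Agent.Linear.Mitchell.Centraliser.Iso

/-!
The plane group modulo its scalars `±1`.
-/

set_option autoImplicit false

namespace Cfsg.Agent.Linear.Mitchell

open scoped MatrixGroups Matrix
open Cfsg.Geo Matrix Cfsg.Agent.Linear

variable {F : Type*} [Field F] {P : Subgroup (GL (Fin 3) F)}

local notation "M2" => Matrix (Fin 2) (Fin 2) F

theorem isScalarTwo_iff {M : M2} : IsScalarTwo M ↔ ∃ c : F, M = c • 1 := by
  constructor
  · rintro ⟨h1, h2, h3⟩
    refine ⟨M 0 0, ?_⟩
    ext i j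
    fin_cases i <;> fin_cases j <;> simp [h1, h2, h3]
  · rintro ⟨c, rfl⟩
    exact ⟨by simp, by simp, by simp⟩

/-- A non-scalar matrix with scalar square has trace zero. -/
theorem trace_eq_zero_of_sq_scalar {M : M2} (hM : ¬ IsScalarTwo M) {c : F} (h : M * M = c • 1) :
    M.trace = 0 := by
  by_contra ht
  apply hM
  have h00 := congrFun (congrFun h 0) 0
  have h01 := congrFun (congrFun h 0) 1
  have h10 := congrFun (congrFun h 1) 0
  have h11 := congrFun (congrFun h 1) 1
  simp [Matrix.mul_apply, Fin.sum_univ_two] at h00 h01 h10 h11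
  rw [Matrix.trace_fin_two] at ht
  refine ⟨(mul_eq_zero.mp (show M 0 1 * (M 0 0 + M 1 1) = 0 by linear_combination h01)).resolve_right ht,
    (mul_eq_zero.mp (show M 1 0 * (M 0 0 + M 1 1) = 0 by linear_combination h10)).resolve_right ht, ?_⟩
  exact sub_eq_zero.mp ((mul_eq_zero.mp (show (M 0 0 - M 1 1) * (M 0 0 + M 1 1) = 0 by
    linear_combination h00 - h11)).resolve_right ht)

/-- Matrices commuting with a non-scalar one commute with each other. -/
theorem commute_of_commute {M A B : GL (Fin 2) F} (hM : ¬ IsScalarTwo (M : M2)) (hA : A * M = M * A)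
    (hB : B * M = M * B) : A * B = B * A := by
  obtain ⟨a, b, hab⟩ := (mem_centralizer_GL_two hM).mp (Subgroup.mem_centralizer_singleton_iff.mpr hA)
  obtain ⟨c, d, hcd⟩ := (mem_centralizer_GL_two hM).mp (Subgroup.mem_centralizer_singleton_iff.mpr hB)
  refine Units.ext ?_
  simp only [Units.val_mul, hab, hcd, add_mul, mul_add, Matrix.smul_mul, Matrix.mul_smul, smul_add,
    smul_smul, one_mul, mul_one]
  rw [mul_comm c a, mul_comm d a, mul_comm c b, mul_comm d b]
  abel

namespace InvSetting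

variable {p : ℕ} (hI : InvSetting p P)
include hI

theorem neg_one_ne_one : (-1 : GL (Fin 2) F) ≠ 1 := fun h => by
  have := congrArg (fun M : GL (Fin 2) F => (M : M2) 0 0) h
  simp at this
  exact hI.two (by linear_combination -this)

theorem isScalarTwo_plane {M : GL (Fin 2) F} (hM : M ∈ hI.plane) :
    IsScalarTwo (M : M2) ↔ M = 1 ∨ M = -1 := by
  refine ⟨fun h => ?_, fun h => ?_⟩
  · obtain ⟨c, hc⟩ := isScalarTwo_iff.mp h
    exact hI.scalar_plane hM hc
  · rcases h with rfl | rfl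
    · exact isScalarTwo_iff.mpr ⟨1, by simp⟩
    · exact isScalarTwo_iff.mpr ⟨-1, by simp⟩

theorem neg_mem {M : GL (Fin 2) F} (hM : M ∈ hI.plane) : -M ∈ hI.plane := by
  simpa using hI.plane.mul_mem hI.neg_one_mem hM

/-- The plane group modulo `±1`, with its isomorphism type. -/
theorem exists_planeQuot [Fintype F] :
    ∃ (Q : Type) (_ : Group Q) (_ : Finite Q) (f : hI.plane →* Q), Function.Surjective f ∧
      (∀ M : hI.plane, f M = 1 ↔ (M : GL (Fin 2) F) = 1 ∨ (M : GL (Fin 2) F) = -1) ∧ PlaneType Q := by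
  haveI : Fact p.Prime := ⟨hI.prime⟩
  haveI := hI.char
  obtain ⟨E, iE, iE', iC, Ψ, hΨ⟩ := exists_toPSL (F := F) p
  let f := (Ψ.comp hI.plane.subtype).rangeRestrict
  refine ⟨(Ψ.comp hI.plane.subtype).range, inferInstance, inferInstance, f,
    MonoidHom.rangeRestrict_surjective _, fun M => ?_, planeType_of_not_dvd p _ fun h => hI.not_dvd_card
      (h.trans (Subgroup.card_range_dvd _))⟩
  rw [← hI.isScalarTwo_plane M.2, ← hΨ, Subtype.ext_iff]
  rfl

variable {Q : Type} [Group Q] {f : hI.plane →* Q}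
  (hf : ∀ M : hI.plane, f M = 1 ↔ (M : GL (Fin 2) F) = 1 ∨ (M : GL (Fin 2) F) = -1)
include hf

theorem eq_or_eq_neg_of_image {M N : hI.plane} (h : f M = f N) :
    (N : GL (Fin 2) F) = M ∨ (N : GL (Fin 2) F) = -(M : GL (Fin 2) F) := by
  rw [← inv_mul_eq_one, ← map_inv, ← map_mul, hf, Subgroup.coe_mul, Subgroup.coe_inv] at h
  rcases h with h | h
  · exact Or.inl (inv_mul_eq_one.mp h).symm
  · right
    rw [inv_mul_eq_iff_eq_mul] at h
    rw [h, mul_neg, mul_one]

/-- Commuting lifts of two involutions have the same image. -/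
theorem image_eq_of_commute {M N : hI.plane} (hM : f M ≠ 1) (hM2 : f M * f M = 1) (hN : f N ≠ 1)
    (hN2 : f N * f N = 1) (hc : M * N = N * M) : f M = f N := by
  have key : ∀ X : hI.plane, f X * f X = 1 → ∃ c : F, (((X : GL (Fin 2) F)) : M2) * (X : GL (Fin 2) F) = c • 1 := by
    intro X hX
    rw [← map_mul, hf, ← hI.isScalarTwo_plane (X * X).2] at hX
    simpa using isScalarTwo_iff.mp hX
  have hMs : ¬ IsScalarTwo ((M : GL (Fin 2) F) : M2) := fun h =>
    hM ((hf M).mpr ((hI.isScalarTwo_plane M.2).mp h))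
  have hNs : ¬ IsScalarTwo ((N : GL (Fin 2) F) : M2) := fun h =>
    hN ((hf N).mpr ((hI.isScalarTwo_plane N.2).mp h))
  obtain ⟨c, hc'⟩ := key M hM2
  obtain ⟨d, hd'⟩ := key N hN2
  obtain ⟨a, b, hab⟩ := (mem_centralizer_GL_two hMs).mp
    (Subgroup.mem_centralizer_singleton_iff.mpr (congrArg Subtype.val hc).symm)
  have ht := trace_eq_zero_of_sq_scalar hMs hc'
  have ht' := trace_eq_zero_of_sq_scalar hNs hd'
  rw [hab, Matrix.trace_add, Matrix.trace_smul, Matrix.trace_smul, ht, smul_zero, add_zero, smul_eq_mul,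
    Matrix.trace_one, Fintype.card_fin, Nat.cast_ofNat] at ht'
  have ha : a = 0 := (mul_eq_zero.mp ht').resolve_right hI.two
  rw [ha, zero_smul, zero_add] at hab
  have hsc : IsScalarTwo (((M⁻¹ * N : hI.plane) : GL (Fin 2) F) : M2) :=
    isScalarTwo_iff.mpr ⟨b, by simp [hab]⟩
  rw [← inv_mul_eq_one, ← map_inv, ← map_mul, hf, ← hI.isScalarTwo_plane (M⁻¹ * N).2]
  exact hsc

end InvSetting

end Cfsg.Agent.Linear.Mitchell
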